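import Mathlib.CategoryTheory.Abelian.Refinements
import Mathlib.CategoryTheory.Subobject.Lattice
import Mathlib.CategoryTheory.Subobject.Limits
import Mathlib.CategoryTheory.Subobject.ArtinianObject
import Mathlib.CategoryTheory.Subobject.NoetherianObject
import Mathlib.CategoryTheory.Simple
import Mathlib.Order.JordanHolder
import Mathlib.Order.OrderIsoNat

/-!
# Jordan–Hölder in abelian categories: the lattice of subobjects is modular
-/

set_option autoImplicit false
set_option linter.style.haveILetI false

universe v u

open CategoryTheory CategoryTheory.Limits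

namespace Groth.Agent.AbJH

variable {A : Type u} [Category.{v} A] [Abelian A] {X : A}

lemma factors_of_epi {T T' : A} (π : T' ⟶ T) [Epi π] {P : Subobject X} (a : T ⟶ X) (h : P.Factors (π ≫ a)) :
    P.Factors a := by
  have h0 : a ≫ cokernel.π P.arrow = 0 := by
    rw [← cancel_epi π, ← Category.assoc, ← P.factorThru_arrow (π ≫ a) h, Category.assoc, cokernel.condition]
    simp
  exact (Subobject.factors_iff _ _).2
    ⟨Abelian.monoLift P.arrow a h0, Abelian.monoLift_comp P.arrow a h0⟩

lemma exists_decomp {T : A} (x y : Subobject X) (a : T ⟶ X) (h : (x ⊔ y).Factors a) :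
    ∃ (T' : A) (π : T' ⟶ T) (_ : Epi π) (b c : T' ⟶ X), x.Factors b ∧ y.Factors c ∧ π ≫ a = b + c := by
  let d := biprod.desc x.arrow y.arrow
  have hle : x ⊔ y ≤ imageSubobject d := by
    refine sup_le ?_ ?_
    · exact Subobject.le_of_comm (biprod.inl ≫ factorThruImageSubobject d) (by simp [d])
    · exact Subobject.le_of_comm (biprod.inr ≫ factorThruImageSubobject d) (by simp [d])
  have h' : (imageSubobject d).Factors a := Subobject.factors_of_le a hle h
  obtain ⟨T', π, hπ, w, hw⟩ := surjective_up_to_refinements_of_epi (factorThruImageSubobject d)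
    ((imageSubobject d).factorThru a h')
  refine ⟨T', π, hπ, (w ≫ biprod.fst) ≫ x.arrow, (w ≫ biprod.snd) ≫ y.arrow,
    Subobject.factors_comp_arrow _, Subobject.factors_comp_arrow _, ?_⟩
  rw [← (imageSubobject d).factorThru_arrow a h', ← Category.assoc, hw, Category.assoc,
    imageSubobject_arrow_comp]
  simp only [d, Category.assoc, ← Preadditive.comp_add]
  congr 1
  apply biprod.hom_ext' <;> simp

instance : IsModularLattice (Subobject X) where
  sup_inf_le_assoc_of_le {x} y {z} hxz := by
    refine Subobject.le_of_factors ?_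
    have h : ((x ⊔ y) ⊓ z).Factors ((x ⊔ y) ⊓ z).arrow := Subobject.factors_self _
    obtain ⟨h1, h2⟩ := (Subobject.inf_factors _).1 h
    obtain ⟨T', π, hπ, b, c, hb, hc, e⟩ := exists_decomp x y _ h1
    refine factors_of_epi π _ ?_
    rw [e]
    refine Subobject.factors_add b c (Subobject.factors_of_le b le_sup_left hb) ?_
    refine Subobject.factors_of_le c le_sup_right ((Subobject.inf_factors _).2 ⟨hc, ?_⟩)
    have hbz : z.Factors b := Subobject.factors_of_le b hxz hb
    have hcz : c = π ≫ ((x ⊔ y) ⊓ z).arrow + -b := by rw [e]; abel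
    rw [hcz]
    refine Subobject.factors_add _ _ (Subobject.factors_of_factors_right _ h2) ?_
    exact (Subobject.factors_iff _ _).2 ⟨-(z.factorThru b hbz),
      (Preadditive.neg_comp _ _).trans (congrArg (- ·) (z.factorThru_arrow b hbz))⟩

/-- the quotient of two subobjects -/
noncomputable abbrev quo (x y : Subobject X) (h : x ≤ y) : A := cokernel (Subobject.ofLE x y h)

/-- the comparison `x / (x ⊓ y) → (x ⊔ y) / y` -/
noncomputable def secondHom (x y : Subobject X) :
    quo (x ⊓ y) x inf_le_left ⟶ quo y (x ⊔ y) le_sup_right :=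
  cokernel.map _ _ (Subobject.ofLE (x ⊓ y) y inf_le_right) (Subobject.ofLE x (x ⊔ y) le_sup_left)
    (by rw [Subobject.ofLE_comp_ofLE, Subobject.ofLE_comp_ofLE])

instance isIso_secondHom (x y : Subobject X) : IsIso (secondHom x y) := by
  haveI : Epi (secondHom x y) := by
    rw [epi_iff_surjective_up_to_refinements]
    intro T t
    obtain ⟨T₁, π₁, hπ₁, s, hs⟩ := surjective_up_to_refinements_of_epi (cokernel.π (Subobject.ofLE y (x ⊔ y) le_sup_right)) t
    obtain ⟨T₂, π₂, hπ₂, b, c, hb, hc, e⟩ := exists_decomp x y (s ≫ (x ⊔ y).arrow) (Subobject.factors_comp_arrow _)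
    refine ⟨T₂, π₂ ≫ π₁, epi_comp _ _, x.factorThru b hb ≫ cokernel.π _, ?_⟩
    have e' : π₂ ≫ s = x.factorThru b hb ≫ Subobject.ofLE x (x ⊔ y) le_sup_left +
        y.factorThru c hc ≫ Subobject.ofLE y (x ⊔ y) le_sup_right := by
      rw [← cancel_mono (x ⊔ y).arrow]
      simp [e]
    rw [Category.assoc, hs, ← Category.assoc, e', Preadditive.add_comp, Category.assoc, Category.assoc,
      cokernel.condition]
    simp [secondHom]
  haveI : Mono (secondHom x y) := by
    refine Preadditive.mono_of_cancel_zero _ fun {T} t ht => ?_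
    obtain ⟨T', π, hπ, s, hs⟩ := surjective_up_to_refinements_of_epi (cokernel.π (Subobject.ofLE (x ⊓ y) x inf_le_left)) t
    have h0 : (s ≫ Subobject.ofLE x (x ⊔ y) le_sup_left) ≫
        cokernel.π (Subobject.ofLE y (x ⊔ y) le_sup_right) = 0 := by
      have := congrArg (π ≫ ·) ht
      simp only [← Category.assoc, hs, comp_zero] at this
      simpa [secondHom] using this
    let u := Abelian.monoLift (Subobject.ofLE y (x ⊔ y) le_sup_right) _ h0
    have hu : s ≫ x.arrow = u ≫ y.arrow := by
      have := congrArg (· ≫ (x ⊔ y).arrow) (Abelian.monoLift_comp (Subobject.ofLE y (x ⊔ y) le_sup_right) _ h0)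
      simp only [Category.assoc, Subobject.ofLE_arrow] at this
      exact this.symm
    have hf : (x ⊓ y).Factors (s ≫ x.arrow) := (Subobject.inf_factors _).2
      ⟨Subobject.factors_comp_arrow _, hu ▸ Subobject.factors_comp_arrow _⟩
    have hs' : s = (x ⊓ y).factorThru _ hf ≫ Subobject.ofLE (x ⊓ y) x inf_le_left := by
      rw [← cancel_mono x.arrow]
      simp
    rw [← cancel_epi π, hs, hs', Category.assoc, cokernel.condition]
    simp
  exact isIso_of_mono_of_epi _

/-- **second isomorphism theorem** -/
noncomputable def secondIso (x y : Subobject X) :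
    quo (x ⊓ y) x inf_le_left ≅ quo y (x ⊔ y) le_sup_right := asIso (secondHom x y)

lemma nonempty_quo_congr {x y x' y' : Subobject X} (hx : x = x') (hy : y = y') (h : x ≤ y) (h' : x' ≤ y') :
    Nonempty (quo x y h ≅ quo x' y' h') := by
  subst hx hy
  exact ⟨Iso.refl _⟩

lemma isIso_of_epi_ofLE {x y : Subobject X} (h : x ≤ y) [Epi (Subobject.ofLE x y h)] : x = y := by
  haveI := isIso_of_mono_of_epi (Subobject.ofLE x y h)
  exact le_antisymm h (Subobject.le_of_comm (inv (Subobject.ofLE x y h)) (by simp))

/-- **maximal inclusions are those with simple quotient** -/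
theorem simple_quo_iff {x y : Subobject X} (h : x ≤ y) : Simple (quo x y h) ↔ x ⋖ y := by
  constructor
  · intro hs
    refine ⟨lt_of_le_of_ne h fun e => ?_, fun z hxz hzy => ?_⟩
    · subst e
      refine Simple.not_isZero (quo x x h) ?_
      rw [IsZero.iff_id_eq_zero, ← cancel_epi (cokernel.π _)]
      simpa [Subobject.ofLE_refl] using cokernel.condition (Subobject.ofLE x x h)
    · let m : quo x z hxz.le ⟶ quo x y h := cokernel.map _ _ (𝟙 _) (Subobject.ofLE z y hzy.le) (by simp)
      haveI : Mono m := by
        refine Preadditive.mono_of_cancel_zero _ fun {T} t ht => ?_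
        obtain ⟨T', π, hπ, s, hs⟩ := surjective_up_to_refinements_of_epi (cokernel.π (Subobject.ofLE x z hxz.le)) t
        have h0 : (s ≫ Subobject.ofLE z y hzy.le) ≫ cokernel.π (Subobject.ofLE x y h) = 0 := by
          have := congrArg (π ≫ ·) ht
          simp only [← Category.assoc, hs, comp_zero] at this
          simpa [m] using this
        have hs' : s = Abelian.monoLift _ _ h0 ≫ Subobject.ofLE x z hxz.le := by
          rw [← cancel_mono (Subobject.ofLE z y hzy.le), Category.assoc, Subobject.ofLE_comp_ofLE,
            Abelian.monoLift_comp]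
        rw [← cancel_epi π, hs, hs', Category.assoc, cokernel.condition]
        simp
      by_cases hm : m = 0
      · have : cokernel.π (Subobject.ofLE x z hxz.le) = 0 := by
          rw [← cancel_mono m, hm]; simp
        haveI := Abelian.epi_of_cokernel_π_eq_zero _ this
        exact hxz.ne (isIso_of_epi_ofLE _)
      · haveI := isIso_of_mono_of_nonzero hm
        haveI : Epi (Subobject.ofLE z y hzy.le) := by
          rw [epi_iff_surjective_up_to_refinements]
          intro T t
          obtain ⟨T', π, hπ, s, hs⟩ := surjective_up_to_refinements_of_epi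
            (cokernel.π (Subobject.ofLE x z hxz.le)) ((t ≫ cokernel.π (Subobject.ofLE x y h)) ≫ inv m)
          have h0 : (π ≫ t - s ≫ Subobject.ofLE z y hzy.le) ≫ cokernel.π (Subobject.ofLE x y h) = 0 := by
            have := congrArg (· ≫ m) hs
            simp only [Category.assoc, IsIso.inv_hom_id, Category.comp_id, m, cokernel.π_desc] at this
            rw [Preadditive.sub_comp, Category.assoc, Category.assoc, this, sub_self]
          refine ⟨T', π, hπ, s + Abelian.monoLift _ _ h0 ≫ Subobject.ofLE x z hxz.le, ?_⟩
          rw [Preadditive.add_comp, Category.assoc, Subobject.ofLE_comp_ofLE, Abelian.monoLift_comp]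
          abel
        exact hzy.ne (isIso_of_epi_ofLE _)
  · intro hc
    refine ⟨fun {Y} f _ => ⟨fun hf hf0 => ?_, fun hf => ?_⟩⟩
    · subst hf0
      have hz : IsZero (quo x y h) := IsZero.of_epi_eq_zero (0 : Y ⟶ _) rfl
      haveI : Epi (Subobject.ofLE x y h) := Abelian.epi_of_cokernel_π_eq_zero _ (hz.eq_of_tgt _ _)
      exact hc.lt.ne (isIso_of_epi_ofLE h)
    · let P := pullback.snd f (cokernel.π (Subobject.ofLE x y h))
      let z : Subobject X := Subobject.mk (P ≫ y.arrow)
      have hzy : z ≤ y := Subobject.mk_le_of_comm P rfl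
      have hxz : x ≤ z := Subobject.le_mk_of_comm (pullback.lift 0 (Subobject.ofLE x y h) (by simp))
        (by rw [pullback.lift_snd_assoc]; simp)
      rcases hc.eq_or_eq hxz hzy with e | e
      · exfalso
        refine hf ?_
        rw [← cancel_epi (pullback.fst f (cokernel.π (Subobject.ofLE x y h))), comp_zero, pullback.condition]
        have hle : z ≤ x := e.le
        have : pullback.snd f (cokernel.π (Subobject.ofLE x y h)) =
            Subobject.ofMkLE (P ≫ y.arrow) x hle ≫ Subobject.ofLE x y h := by
          rw [← cancel_mono y.arrow]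
          simp [P]
        rw [this, Category.assoc, cokernel.condition, comp_zero]
      · have hP : Epi P := by
          have hle : y ≤ z := e.ge
          have : Subobject.ofLEMk y (P ≫ y.arrow) hle ≫ P = 𝟙 _ := by
            rw [← cancel_mono y.arrow]
            simp
          exact epi_of_epi_fac this
        haveI : Epi f := epi_of_epi_fac (f := pullback.fst f (cokernel.π (Subobject.ofLE x y h))) pullback.condition
        exact isIso_of_mono_of_epi f

/-- a finite maximal chain forces both chain conditions -/
theorem wellFounded_of_chain {α : Type*} [Lattice α] [IsModularLattice α] [BoundedOrder α] (n : ℕ)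
    (F : Fin (n + 1) → α) (h0 : F 0 = ⊥) (hn : F (Fin.last n) = ⊤)
    (hc : ∀ i : Fin n, F i.castSucc ⋖ F i.succ) : WellFoundedLT α ∧ WellFoundedGT α := by
  have key : ∀ i, WellFoundedLT (Set.Iic (F i)) ∧ WellFoundedGT (Set.Iic (F i)) := by
    intro i
    induction i using Fin.induction with
    | zero =>
      haveI : Subsingleton (Set.Iic (F 0)) := ⟨fun a b => Subtype.ext
        ((le_bot_iff.1 (a.2.trans h0.le)).trans (le_bot_iff.1 (b.2.trans h0.le)).symm)⟩
      exact ⟨inferInstance, inferInstance⟩
    | succ i ih =>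
      obtain ⟨h1, h2⟩ := ih
      haveI := h1
      haveI := h2
      let a := F i.castSucc
      let b := F i.succ
      haveI : Finite (Set.Icc a b) := by
        rw [(hc i).Icc_eq]
        exact Set.Finite.to_subtype (Set.toFinite _)
      let φ : Set.Iic b → Set.Iic a × Set.Icc a b := fun z =>
        (⟨z.1 ⊓ a, inf_le_right⟩, ⟨z.1 ⊔ a, le_sup_right, sup_le z.2 (hc i).le⟩)
      have hφ : StrictMono φ := fun z w hzw => by
        have h := strictMono_inf_prod_sup (z := a) (show z.1 < w.1 from hzw)
        exact h
      exact ⟨hφ.wellFoundedLT, hφ.wellFoundedGT⟩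
  obtain ⟨h1, h2⟩ := key (Fin.last n)
  have e : Set.Iic (F (Fin.last n)) = Set.univ := by rw [hn, Set.Iic_top]
  have hm : StrictMono (fun z : α => (⟨z, hn ▸ le_top⟩ : Set.Iic (F (Fin.last n)))) := fun a b h => h
  exact ⟨hm.wellFoundedLT, hm.wellFoundedGT⟩

end Groth.Agent.AbJH
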